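/-
Regularity of complete local algebras with residue field the ground field and infinitesimal lifting.
-/
import Groth.Agent.AdicBasics.Cotangent
import Groth.Agent.NodeFam.Iso

set_option autoImplicit false
universe u

open IsLocalRing MvPowerSeries

namespace Groth.Agent.LiftRegCrit

variable {k : Type u} [Field k]

theorem isArtinianRing_quot_pow {P : Type u} [CommRing P] [IsLocalRing P] [IsNoetherianRing P] (n : ℕ) :
    IsArtinianRing (P ⧸ maximalIdeal P ^ n) := by
  rw [isArtinianRing_iff_isNoetherianRing_krullDimLE_zero]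
  refine ⟨inferInstance, Ring.krullDimLE_zero_iff.2 fun J hJ => ?_⟩
  have h1 : maximalIdeal P ≤ J.comap (Ideal.Quotient.mk (maximalIdeal P ^ n)) := by
    intro x hx
    refine hJ.mem_of_pow_mem n ?_
    rw [← map_pow, Ideal.Quotient.eq_zero_iff_mem.2 (Ideal.pow_mem_pow hx n)]
    exact zero_mem _
  have h2 : (J.comap (Ideal.Quotient.mk (maximalIdeal P ^ n))).IsMaximal := by
    have : J.comap (Ideal.Quotient.mk (maximalIdeal P ^ n)) = maximalIdeal P :=
      ((maximalIdeal.isMaximal P).eq_of_le (Ideal.IsPrime.ne_top inferInstance) h1).symm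
    rw [this]
    exact maximalIdeal.isMaximal P
  rw [← Ideal.map_comap_of_surjective _ Ideal.Quotient.mk_surjective J]
  refine (Ideal.map_eq_top_or_isMaximal_of_surjective _ Ideal.Quotient.mk_surjective h2).resolve_left ?_
  rw [Ideal.map_comap_of_surjective _ Ideal.Quotient.mk_surjective J]
  exact hJ.ne_top

theorem residue_comp_surjective (d : ℕ) :
    Function.Surjective ((residue (MvPowerSeries (Fin d) k)).comp
      (algebraMap k (MvPowerSeries (Fin d) k))) := by
  intro y
  obtain ⟨f, rfl⟩ := residue_surjective y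
  refine ⟨constantCoeff f, ?_⟩
  rw [RingHom.comp_apply, eq_comm]
  refine Ideal.Quotient.eq.2 ?_
  rw [← ArtPow.span_X_eq_maximalIdeal, MvPowerSeries.algebraMap_apply, Algebra.algebraMap_self,
    RingHom.id_apply]
  exact ArtPow.sub_C_constantCoeff_mem f

/-- An endomorphism of a power series ring which fixes the cotangent space is injective and preserves the powers of the maximal ideal. -/
theorem endo_mem_pow {d : ℕ} (θ : MvPowerSeries (Fin d) k →ₐ[k] MvPowerSeries (Fin d) k)
    (hθ : ∀ i, θ (X i) - X i ∈ maximalIdeal (MvPowerSeries (Fin d) k) ^ 2)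
    (n : ℕ) (f : MvPowerSeries (Fin d) k) (hf : θ f ∈ maximalIdeal (MvPowerSeries (Fin d) k) ^ n) :
    f ∈ maximalIdeal (MvPowerSeries (Fin d) k) ^ n := by
  haveI := ArtObs.isAdicComplete_ps k d
  have hXM : ∀ i, (X i : MvPowerSeries (Fin d) k) ∈ maximalIdeal (MvPowerSeries (Fin d) k) := fun i =>
    ArtPow.span_X_eq_maximalIdeal (k := k).le (Ideal.subset_span ⟨i, rfl⟩)
  have hθM : ∀ i, θ (X i) ∈ maximalIdeal (MvPowerSeries (Fin d) k) := fun i => by
    have := add_mem (Ideal.pow_le_self two_ne_zero (hθ i)) (hXM i)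
    rwa [sub_add_cancel] at this
  have hle := AdicBasics.ps_map_max_le k (MvPowerSeries (Fin d) k) d θ hθM
  have heq : (maximalIdeal (MvPowerSeries (Fin d) k)).map θ.toRingHom = maximalIdeal (MvPowerSeries (Fin d) k) := by
    refine le_antisymm hle ?_
    refine Submodule.le_of_le_smul_of_le_jacobson_bot (IsNoetherian.noetherian _)
      (IsLocalRing.maximalIdeal_le_jacobson ⊥) ?_
    rw [smul_eq_mul, ← pow_two]
    refine ArtPow.span_X_eq_maximalIdeal (k := k).ge.trans ?_
    rw [Ideal.span_le]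
    rintro _ ⟨i, rfl⟩
    have h1 : θ (X i) ∈ (maximalIdeal (MvPowerSeries (Fin d) k)).map θ.toRingHom :=
      Ideal.mem_map_of_mem θ.toRingHom (hXM i)
    have h2 := Submodule.sub_mem _ (Submodule.mem_sup_left
      (T := maximalIdeal (MvPowerSeries (Fin d) k) ^ 2) h1) (Submodule.mem_sup_right (hθ i))
    rwa [sub_sub_cancel] at h2
  haveI : IsHausdorff (Ideal.map θ.toRingHom (maximalIdeal (MvPowerSeries (Fin d) k))) (MvPowerSeries (Fin d) k) := by
    rw [heq]; infer_instance
  have hsurj : Function.Surjective θ.toRingHom := by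
    refine surjective_of_mk_map_comp_surjective (I := maximalIdeal (MvPowerSeries (Fin d) k)) θ.toRingHom fun y => ?_
    obtain ⟨y, rfl⟩ := Ideal.Quotient.mk_surjective y
    obtain ⟨c, hc⟩ := residue_comp_surjective d (residue _ y)
    refine ⟨algebraMap k _ c, ?_⟩
    rw [RingHom.comp_apply, Ideal.Quotient.eq, heq]
    show θ (algebraMap k _ c) - y ∈ _
    rw [AlgHom.commutes]
    exact Ideal.Quotient.eq.1 hc
  have hinj := NodeFam.injective_of_surjective_endo θ.toRingHom hsurj
  rw [← heq, ← Ideal.map_pow] at hf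
  obtain ⟨g, hg, hgf⟩ := (Ideal.mem_map_iff_of_surjective θ.toRingHom hsurj).1 hf
  rwa [← hinj hgf]

theorem main (A : Type u) [CommRing A] [Algebra k A] [IsLocalRing A] [IsNoetherianRing A]
    [IsAdicComplete (maximalIdeal A) A]
    (π : A →ₐ[k] k) (hπ : RingHom.ker π = maximalIdeal A) :
    IsRegularLocalRing A ↔
      ∀ (R : Type u) [CommRing R] [Algebra k R] [IsArtinianRing R] [IsLocalRing R] (J : Ideal R),
        J ^ 2 = ⊥ → ∀ f : A →ₐ[k] R ⧸ J, IsLocalHom (f : A →+* R ⧸ J) →
          ∃ g : A →ₐ[k] R, (Ideal.Quotient.mkₐ k J).comp g = f := by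
  have hR : Function.Surjective ((residue A).comp (algebraMap k A)) := by
    intro y
    obtain ⟨a, rfl⟩ := residue_surjective y
    refine ⟨π a, Ideal.Quotient.eq.2 (hπ.le (RingHom.mem_ker.2 ?_))⟩
    rw [map_sub, AlgHom.commutes]
    exact sub_self _
  obtain ⟨d, ⟨B⟩⟩ : ∃ d, Nonempty (Module.Basis (Fin d) (ResidueField A) (CotangentSpace A)) :=
    ⟨_, ⟨Module.finBasis (ResidueField A) (CotangentSpace A)⟩⟩
  choose b hb' using fun i => (maximalIdeal A).toCotangent_surjective (B i)
  obtain ⟨ψ, hψX⟩ := ArtKit.exists_evalAdic (R := k) (maximalIdeal A) (fun i => (b i : A)) (fun i => (b i).2)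
  have hψ : ∀ i, ψ (X i) ∈ maximalIdeal A := fun i => by rw [hψX]; exact (b i).2
  have hfam : (fun i => (maximalIdeal A).toCotangent ⟨ψ (X i), hψ i⟩) = ⇑B := by
    funext i
    rw [← hb' i]
    congr 1
    exact Subtype.ext (hψX i)
  have hb : LinearIndependent (ResidueField A)
      (fun i => (maximalIdeal A).toCotangent ⟨ψ (X i), hψ i⟩) := by
    rw [hfam]; exact B.linearIndependent
  have hsp : Submodule.span (ResidueField A)
      (Set.range (fun i => (maximalIdeal A).toCotangent ⟨ψ (X i), hψ i⟩)) = ⊤ := by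
    rw [hfam]; exact B.span_eq
  rw [AdicBasics.ps_regular_iff k A hR _ ψ hψ hb hsp]
  constructor
  · intro hbij R _ _ _ _ J _ f hf
    have hc : ∀ i, ∃ c : R, Ideal.Quotient.mk J c = f (ψ (X i)) := fun i => Ideal.Quotient.mk_surjective _
    choose c hc using hc
    have hcm : ∀ i, c i ∈ maximalIdeal R := fun i => by
      rw [IsLocalRing.mem_maximalIdeal, mem_nonunits_iff]
      intro hu
      have h1 : IsUnit ((f : A →+* R ⧸ J) (ψ (X i))) := by
        show IsUnit (f (ψ (X i)))
        rw [← hc i]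
        exact hu.map _
      exact (IsLocalRing.mem_maximalIdeal _).1 (hψ i) (isUnit_of_map_unit (f : A →+* R ⧸ J) _ h1)
    obtain ⟨N, hN⟩ := IsArtinianRing.isNilpotent_jacobson_bot (R := R)
    rw [IsLocalRing.jacobson_eq_maximalIdeal ⊥ bot_ne_top, Ideal.zero_eq_bot] at hN
    have hnil : ∀ i, IsNilpotent (c i) := fun i =>
      ⟨N, Ideal.mem_bot.1 (hN ▸ Ideal.pow_mem_pow (hcm i) N)⟩
    let e := AlgEquiv.ofBijective ψ hbij
    refine ⟨(ArtPow.evalNil c hnil).comp e.symm.toAlgHom, ?_⟩
    have key : (Ideal.Quotient.mkₐ k J).comp (ArtPow.evalNil c hnil) = f.comp ψ := by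
      refine ArtPow.algHom_ext (I := (maximalIdeal R).map (Ideal.Quotient.mk J)) (N := N) ?_ (fun i => ?_) (fun i => ?_)
      · rw [← Ideal.map_pow, hN, Ideal.map_bot]
      · rw [AlgHom.comp_apply, ArtPow.evalNil_X]
        exact hc i
      · rw [AlgHom.comp_apply, ArtPow.evalNil_X]
        exact Ideal.mem_map_of_mem _ (hcm i)
    refine AlgHom.ext fun a => ?_
    obtain ⟨p, rfl⟩ := hbij.2 a
    have : e.symm (ψ p) = p := e.symm_apply_apply p
    show Ideal.Quotient.mk J (ArtPow.evalNil c hnil (e.symm (ψ p))) = _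
    rw [this]
    exact DFunLike.congr_fun key p
  · intro hlift
    have hs := AdicBasics.ps_surjective k A hR _ ψ hψ hsp
    refine ⟨?_, hs⟩
    have hker := AdicBasics.ps_ker_le_sq k A _ ψ hψ hb
    let M := maximalIdeal (MvPowerSeries (Fin d) k)
    haveI := ArtObs.isAdicComplete_ps k d
    have hg : ∀ n, ∃ g : A →ₐ[k] MvPowerSeries (Fin d) k ⧸ M ^ (n + 2),
        ∀ i, g (ψ (X i)) - Ideal.Quotient.mk _ (X i) ∈ (M ^ 2).map (Ideal.Quotient.mk (M ^ (n + 2))) := by
      intro n
      induction n with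
      | zero =>
        let e := Ideal.quotientKerAlgEquivOfSurjective (f := ψ) hs
        let q : (MvPowerSeries (Fin d) k ⧸ RingHom.ker ψ) →ₐ[k] MvPowerSeries (Fin d) k ⧸ M ^ (0 + 2) :=
          Ideal.Quotient.liftₐ _ (Ideal.Quotient.mkₐ k (M ^ 2)) fun a ha =>
            Ideal.Quotient.eq_zero_iff_mem.2 (hker (RingHom.mem_ker.2 (RingHom.mem_ker.1 ha)))
        refine ⟨q.comp e.symm.toAlgHom, fun i => ?_⟩
        have h1 : e.symm (ψ (X i)) = Ideal.Quotient.mk _ (X i) := by
          rw [AlgEquiv.symm_apply_eq]; rfl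
        have h2 : (q.comp e.symm.toAlgHom) (ψ (X i)) = Ideal.Quotient.mk _ (X i) := by
          show q (e.symm (ψ (X i))) = _
          rw [h1]; rfl
        rw [h2, sub_self]
        exact zero_mem _
      | succ n ih =>
        obtain ⟨g, hg⟩ := ih
        let R := MvPowerSeries (Fin d) k ⧸ M ^ (n + 3)
        have hne : M ^ (n + 3) ≠ ⊤ := fun h =>
          (maximalIdeal.isMaximal _).ne_top (top_le_iff.1 (h.ge.trans (Ideal.pow_le_self (by omega))))
        haveI : Nontrivial R := Ideal.Quotient.nontrivial_iff.2 hne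
        haveI : IsLocalRing R := IsLocalRing.of_surjective' _ Ideal.Quotient.mk_surjective
        haveI : IsArtinianRing R := isArtinianRing_quot_pow (n + 3)
        let J : Ideal R := (M ^ (n + 2)).map (Ideal.Quotient.mk (M ^ (n + 3)))
        have hJ : J ^ 2 = ⊥ := by
          show ((M ^ (n + 2)).map _) ^ 2 = ⊥
          rw [← Ideal.map_pow, ← pow_mul, eq_bot_iff, ← Ideal.map_quotient_self (M ^ (n + 3))]
          exact Ideal.map_mono (Ideal.pow_le_pow_right (by omega))
        let e : (R ⧸ J) ≃ₐ[k] MvPowerSeries (Fin d) k ⧸ M ^ (n + 2) :=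
          (DoubleQuot.quotQuotEquivQuotOfLEₐ k (Ideal.pow_le_pow_right (Nat.le_succ (n + 2))))
        let f : A →ₐ[k] R ⧸ J := e.symm.toAlgHom.comp g
        have hf : IsLocalHom (f : A →+* R ⧸ J) := by
          refine ⟨fun a ha => ?_⟩
          by_contra hu
          have ham : a ∈ maximalIdeal A := (IsLocalRing.mem_maximalIdeal _).2 hu
          have hgu : IsUnit (g a) := by
            have := ha.map e
            rwa [show e ((f : A →+* R ⧸ J) a) = g a from e.apply_symm_apply (g a)] at this
          have hgm : (maximalIdeal A).map g.toRingHom ≤ M.map (Ideal.Quotient.mk (M ^ (n + 2))) := by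
            rw [← AdicBasics.ps_map_max_eq k A d ψ hψ hsp, Ideal.map_map, ← ArtPow.span_X_eq_maximalIdeal,
              Ideal.map_span, ← Set.range_comp, Ideal.span_le]
            rintro _ ⟨i, rfl⟩
            have h1 := add_mem (Ideal.map_mono (f := Ideal.Quotient.mk (M ^ (n + 2)))
              (Ideal.pow_le_self (I := M) two_ne_zero) (hg i))
              (Ideal.mem_map_of_mem (Ideal.Quotient.mk (M ^ (n + 2)))
                (ArtPow.span_X_eq_maximalIdeal (k := k).le (Ideal.subset_span ⟨i, rfl⟩) : X i ∈ M))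
            rw [sub_add_cancel] at h1
            exact h1
          have h2 : M.map (Ideal.Quotient.mk (M ^ (n + 2))) = ⊤ :=
            Ideal.eq_top_of_isUnit_mem _ (hgm (Ideal.mem_map_of_mem g.toRingHom ham)) hgu
          have h3 := congrArg (Ideal.comap (Ideal.Quotient.mk (M ^ (n + 2)))) h2
          rw [Ideal.comap_map_of_surjective _ Ideal.Quotient.mk_surjective, ← RingHom.ker_eq_comap_bot,
            Ideal.mk_ker, Ideal.comap_top, sup_eq_left.2 (Ideal.pow_le_self (by omega))] at h3
          exact (maximalIdeal.isMaximal _).ne_top h3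
        obtain ⟨g', hg'⟩ := hlift R J hJ f hf
        refine ⟨g', fun i => ?_⟩
        obtain ⟨p, hp⟩ := Ideal.Quotient.mk_surjective (g' (ψ (X i)))
        have h1 : e (Ideal.Quotient.mk J (g' (ψ (X i)))) = g (ψ (X i)) := by
          have := DFunLike.congr_fun hg' (ψ (X i))
          rw [show Ideal.Quotient.mk J (g' (ψ (X i))) = f (ψ (X i)) from this]
          exact e.apply_symm_apply _
        rw [← hp] at h1 ⊢
        have h2 : Ideal.Quotient.mk (M ^ (n + 2)) p = g (ψ (X i)) := h1
        have h3 := hg i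
        rw [← h2, ← map_sub, Ideal.mem_quotient_iff_mem (Ideal.pow_le_pow_right (by omega))] at h3
        rw [← map_sub]
        exact Ideal.mem_map_of_mem _ h3
    rw [injective_iff_map_eq_zero]
    intro f hf
    refine IsHausdorff.haus' (I := M) f fun n => ?_
    rw [SModEq.sub_mem, sub_zero, smul_eq_mul, Ideal.mul_top]
    refine Ideal.pow_le_pow_right (Nat.le_add_right n 2) ?_
    obtain ⟨g, hg⟩ := hg n
    choose c hc using fun i => Ideal.Quotient.mk_surjective (g (ψ (X i)))
    have hcX : ∀ i, c i - X i ∈ M ^ 2 := fun i => by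
      have := hg i
      rw [← hc i, ← map_sub] at this
      exact (Ideal.mem_quotient_iff_mem (Ideal.pow_le_pow_right (by omega))).1 this
    have hcM : ∀ i, c i ∈ M := fun i => by
      have := add_mem (Ideal.pow_le_self (I := M) two_ne_zero (hcX i))
        (ArtPow.span_X_eq_maximalIdeal (k := k).le (Ideal.subset_span ⟨i, rfl⟩) : X i ∈ M)
      rwa [sub_add_cancel] at this
    obtain ⟨θ, hθ⟩ := ArtKit.exists_evalAdic (R := k) M c hcM
    refine endo_mem_pow θ (fun i => by rw [hθ]; exact hcX i) (n + 2) f ?_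
    have key : (Ideal.Quotient.mkₐ k (M ^ (n + 2))).comp θ = g.comp ψ := by
      refine ArtPow.algHom_ext (I := M.map (Ideal.Quotient.mk (M ^ (n + 2)))) (N := n + 2) ?_ (fun i => ?_) (fun i => ?_)
      · rw [← Ideal.map_pow, Ideal.map_quotient_self]
      · rw [AlgHom.comp_apply, AlgHom.comp_apply, hθ]
        exact hc i
      · rw [AlgHom.comp_apply, hθ]
        exact Ideal.mem_map_of_mem _ (hcM i)
    have := DFunLike.congr_fun key f
    rw [AlgHom.comp_apply, AlgHom.comp_apply, hf, map_zero] at this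
    exact Ideal.Quotient.eq_zero_iff_mem.1 this

end Groth.Agent.LiftRegCrit
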